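import Groth.Prelude.Def_FibCat2
import Groth.Prelude.Def_AlgSt
import Groth.Prelude.Def_W4c2modmodulilectNerve
import Mathlib.CategoryTheory.IsConnected
import Mathlib.CategoryTheory.Category.ULift
import Mathlib.CategoryTheory.Groupoid.Discrete
import Mathlib.CategoryTheory.Discrete.Basic

/-!
Descent of sections of categories fibred in groupoids along functors with weakly contractible comma categories.
-/

set_option autoImplicit false
set_option linter.style.haveILetI false
set_option backward.isDefEq.respectTransparency false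
set_option backward.isDefEq.respectTransparency.types false

universe w v₀ u₀ v₁ u₁ v₂ u₂ v₃ u₃

open CategoryTheory CategoryTheory.Functor

noncomputable section

namespace Groth.Agent.FibGrpdDesc

/-- Every functor into a groupoid (in a given universe) is isomorphic to a constant one. -/
def ConstToGrpd (A : Type u₀) [Category.{v₀} A] : Prop :=
  Nonempty A ∧ ∀ (G : Type w) [Groupoid.{w} G] (P : A ⥤ G), ∃ T : G, Nonempty ((Functor.const A).obj T ≅ P)

variable {A : Type u₀} [Category.{v₀} A]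

theorem constToGrpd_of_contractible (h : W4c2modmodulilect.HasContractibleNerve.{w, w} A) : ConstToGrpd.{w} A := by
  refine ⟨h.1, fun G _ P => ?_⟩
  haveI := h.2 G
  exact ⟨(Functor.const A).objPreimage P, ⟨(Functor.const A).objObjPreimageIso P⟩⟩

variable {G : Type u₂} [Groupoid.{v₂} G]

instance (priority := low) groupoidAsSmall : Groupoid.{max w v₂ u₂} (AsSmall.{w} G) :=
  Groupoid.ofIsIso fun f => by
    haveI : IsIso ((AsSmall.equiv : G ≌ AsSmall.{w} G).inverse.map f) := inferInstance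
    exact isIso_of_reflects_iso f (AsSmall.equiv : G ≌ AsSmall.{w} G).inverse

theorem ConstToGrpd.small (h : ConstToGrpd.{max w u₂ v₂} A) (P : A ⥤ G) :
    ∃ T : G, Nonempty ((Functor.const A).obj T ≅ P) := by
  let e : G ≌ AsSmall.{w} G := AsSmall.equiv
  obtain ⟨T, ⟨i⟩⟩ := h.2 _ (P ⋙ e.functor)
  exact ⟨e.inverse.obj T, ⟨(Functor.constComp A T e.inverse).symm ≪≫ Functor.isoWhiskerRight i e.inverse ≪≫
    Functor.associator _ _ _ ≪≫ Functor.isoWhiskerLeft P e.unitIso.symm ≪≫ P.rightUnitor⟩⟩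

theorem ConstToGrpd.preconnected (h : ConstToGrpd.{max w u₀} A) : IsPreconnected A :=
  IsPreconnected.of_constant_of_preserves_morphisms fun {α} F hF j j' => by
    let P : A ⥤ Discrete α :=
      { obj := fun a => ⟨F a⟩
        map := fun f => eqToHom (congrArg Discrete.mk (hF f)) }
    obtain ⟨T, ⟨i⟩⟩ := ConstToGrpd.small.{max w u₀} (G := Discrete α) h P
    exact (Discrete.eq_of_hom (i.hom.app j)).symm.trans (Discrete.eq_of_hom (i.hom.app j'))

section FibGrpd

variable {D : Type u₂} [Category.{v₂} D] {F : Type u₃} [Category.{v₃} F] (p : F ⥤ D) [FibCat.IsFibGrpd p]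

theorem exists_factor {a b c : F} (φ : b ⟶ c) (ψ : a ⟶ c) (g : p.obj a ⟶ p.obj b)
    (hg : g ≫ p.map φ = p.map ψ) : ∃ χ : a ⟶ b, p.map χ = g ∧ χ ≫ φ = ψ := by
  haveI := FibCat.IsFibGrpd.isStronglyCartesian (p := p) φ
  obtain ⟨χ, ⟨h1, h2⟩, -⟩ := IsStronglyCartesian.universal_property p (p.map φ) φ g (p.map ψ) hg.symm ψ
  exact ⟨χ, (IsHomLift.eq_of_isHomLift p g χ).symm, h2⟩

theorem hom_ext_over {a b c : F} (φ : b ⟶ c) {χ χ' : a ⟶ b} (hp : p.map χ = p.map χ') (h : χ ≫ φ = χ' ≫ φ) :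
    χ = χ' := by
  haveI := FibCat.IsFibGrpd.isStronglyCartesian (p := p) φ
  haveI : p.IsHomLift (p.map χ) χ' := by rw [hp]; infer_instance
  exact IsStronglyCartesian.ext p (p.map φ) φ (p.map χ) h

theorem isIso_over_id {a b : F} {S : D} (φ : a ⟶ b) [p.IsHomLift (𝟙 S) φ] : IsIso φ := by
  haveI := FibCat.IsFibGrpd.isStronglyCartesian (p := p) φ
  haveI : IsIso (p.map φ) := by rw [IsHomLift.fac' p (𝟙 S) φ]; infer_instance
  exact IsStronglyCartesian.isIso_of_base_isIso p (p.map φ) φ

instance groupoidFiber (S : D) : Groupoid (p.Fiber S) :=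
  Groupoid.ofIsIso fun {a b} f => by
    haveI : p.IsHomLift (𝟙 S) f.1 := f.2
    haveI := isIso_over_id p (S := S) f.1
    exact ⟨Fiber.homMk p S (inv f.1), Fiber.hom_ext (IsIso.hom_inv_id f.1), Fiber.hom_ext (IsIso.inv_hom_id f.1)⟩

variable {C : Type u₁} [Category.{v₁} C] {φ : C ⥤ D}

/-- A functor over `D`. -/
abbrev Over' (φ : C ⥤ D) (p : F ⥤ D) : Type _ := BasedCategory.ofFunctor φ ⥤ᵇ BasedCategory.ofFunctor p

variable (H : Over' φ p)

theorem p_obj (x : C) : p.obj (H.toFunctor.obj x) = φ.obj x := Functor.congr_obj H.w x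

theorem p_map {x y : C} (h : x ⟶ y) :
    p.map (H.toFunctor.map h) = eqToHom (p_obj p H x) ≫ φ.map h ≫ eqToHom (p_obj p H y).symm :=
  Functor.congr_hom H.w h

/-- A compatible family of arrows out of an object over `Y`. -/
structure Cone (Y : D) where
  /-- The vertex. -/
  T : F
  hT : p.obj T = Y
  /-- The arrows. -/
  c : ∀ s : StructuredArrow Y φ, T ⟶ H.toFunctor.obj s.right
  over : ∀ s, p.map (c s) = eqToHom hT ≫ s.hom ≫ eqToHom (p_obj p H s.right).symm
  nat : ∀ {s t : StructuredArrow Y φ} (h : s ⟶ t), c s ≫ H.toFunctor.map h.right = c t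

theorem exists_cone (Y : D) (h : ConstToGrpd.{max w u₃ v₃} (StructuredArrow Y φ)) : Nonempty (Cone p H Y) := by
  have hlift : ∀ s : StructuredArrow Y φ, ∃ (T : F) (k : T ⟶ H.toFunctor.obj s.right) (hT : p.obj T = Y),
      p.map k = eqToHom hT ≫ s.hom ≫ eqToHom (p_obj p H s.right).symm := fun s => by
    obtain ⟨T, k, hk⟩ := FibCat.IsFibGrpd.exists_lift (p := p) (s.hom ≫ eqToHom (p_obj p H s.right).symm)
    haveI := hk
    exact ⟨T, k, IsHomLift.domain_eq p (s.hom ≫ eqToHom (p_obj p H s.right).symm) k,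
      by simpa using IsHomLift.fac' p (s.hom ≫ eqToHom (p_obj p H s.right).symm) k⟩
  choose T k hT hk using hlift
  have hu : ∀ {s t : StructuredArrow Y φ} (f : s ⟶ t), ∃ u : T s ⟶ T t,
      p.map u = eqToHom ((hT s).trans (hT t).symm) ∧ u ≫ k t = k s ≫ H.toFunctor.map f.right := fun {s t} f => by
    refine exists_factor p (k t) (k s ≫ H.toFunctor.map f.right) _ ?_
    rw [p.map_comp, hk, hk, p_map p H]
    simp [StructuredArrow.w_assoc]
  choose u hup huk using @hu
  let P : StructuredArrow Y φ ⥤ p.Fiber Y :=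
    { obj := fun s => Fiber.mk (hT s)
      map := fun {s t} f =>
        haveI : p.IsHomLift (𝟙 Y) (u f) := IsHomLift.of_fac p _ _ (hT s) (hT t) (by simp [hup])
        Fiber.homMk p Y (u f)
      map_id := fun s => Fiber.hom_ext (hom_ext_over p (k s) (by simp [hup, Fiber.mk]; rfl) (by
        show u (𝟙 s) ≫ k s = 𝟙 (T s) ≫ k s
        rw [huk]; simp))
      map_comp := fun {a b c} f g => Fiber.hom_ext (hom_ext_over p (k c) (by
          show p.map (u (f ≫ g)) = p.map (u f ≫ u g)
          simp [hup]) (by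
        show u (f ≫ g) ≫ k c = (u f ≫ u g) ≫ k c
        rw [huk, Category.assoc, huk, reassoc_of% huk]
        simp)) }
  obtain ⟨T₀, ⟨e⟩⟩ := ConstToGrpd.small.{w} h P
  have he : ∀ s, p.map ((e.hom.app s).1) = eqToHom (T₀.2.trans (hT s).symm) := fun s => by
    haveI : p.IsHomLift (𝟙 Y) (e.hom.app s).1 := (e.hom.app s).2
    simpa using IsHomLift.fac' p (𝟙 Y) (e.hom.app s).1
  refine ⟨⟨T₀.1, T₀.2, fun s => (e.hom.app s).1 ≫ k s, fun s => ?_, fun {s t} f => ?_⟩⟩
  · rw [p.map_comp, he, hk]; simp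
  · rw [Category.assoc, ← huk f, ← Category.assoc]
    congr 1
    have := congrArg Subtype.val (e.hom.naturality f)
    exact this.symm.trans (Category.id_comp _)

variable {p H}

/-- The unique arrow between cones over an arrow of the base. -/
theorem exists_coneMap {Y Y' : D} (h' : IsPreconnected (StructuredArrow Y' φ)) (hne : Nonempty (StructuredArrow Y' φ))
    (K : Cone p H Y) (K' : Cone p H Y') (g : Y ⟶ Y') :
    ∃! χ : K.T ⟶ K'.T, p.map χ = eqToHom K.hT ≫ g ≫ eqToHom K'.hT.symm ∧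
      ∀ s, χ ≫ K'.c s = K.c ((StructuredArrow.map g).obj s) := by
  haveI := h'
  obtain ⟨s₀⟩ := hne
  obtain ⟨χ, hχp, hχ⟩ := exists_factor p (K'.c s₀) (K.c ((StructuredArrow.map g).obj s₀))
    (eqToHom K.hT ≫ g ≫ eqToHom K'.hT.symm) (by rw [K'.over, K.over]; simp)
  have step : ∀ {s t : StructuredArrow Y' φ}, (s ⟶ t) →
      ((χ ≫ K'.c s = K.c ((StructuredArrow.map g).obj s)) ↔ (χ ≫ K'.c t = K.c ((StructuredArrow.map g).obj t))) := by
    intro s t f
    have e1 : K.c ((StructuredArrow.map g).obj s) ≫ H.toFunctor.map f.right = K.c ((StructuredArrow.map g).obj t) :=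
      K.nat ((StructuredArrow.map g).map f)
    refine ⟨fun h => ?_, fun h => hom_ext_over p (H.toFunctor.map f.right) ?_ ?_⟩
    · rw [← K'.nat f, reassoc_of% h, e1]
    · rw [p.map_comp, hχp, K'.over, K.over]; simp
    · rw [Category.assoc, K'.nat f, h, e1]
  have hall : ∀ s, χ ≫ K'.c s = K.c ((StructuredArrow.map g).obj s) := fun s =>
    induct_on_objects {t | χ ≫ K'.c t = K.c ((StructuredArrow.map g).obj t)} hχ (fun {a b} f => step f) s
  exact ⟨χ, ⟨hχp, hall⟩, fun χ' h => hom_ext_over p (K'.c s₀) (h.1.trans hχp.symm) ((h.2 s₀).trans hχ.symm)⟩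

variable (p) in
/-- Restriction of sections along a functor with weakly contractible comma categories. -/
theorem isEquivalence_restr (φ : C ⥤ D)
    (hφ : ∀ Y : D, ConstToGrpd.{max w u₁ u₂ u₃ v₁ v₂ v₃} (StructuredArrow Y φ)) :
    (Stk.restr (FibCat.toSelf (BasedCategory.ofFunctor φ)) (BasedCategory.ofFunctor p)).IsEquivalence := by
  have hpre : ∀ Y, IsPreconnected (StructuredArrow Y φ) := fun Y =>
    ConstToGrpd.preconnected.{max w u₁ u₂ u₃ v₁ v₂ v₃} (hφ Y)
  let R := Stk.restr (FibCat.toSelf (BasedCategory.ofFunctor φ)) (BasedCategory.ofFunctor p)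
  haveI : R.Faithful := ⟨fun {G₁ G₂} α β h => by
    refine BasedNatTrans.homCategory.ext _ _ (NatTrans.ext (funext fun Y => ?_))
    obtain ⟨s⟩ := (hφ Y).1
    have hs : α.toNatTrans.app (φ.obj s.right) = β.toNatTrans.app (φ.obj s.right) :=
      congrArg (fun t : R.obj G₁ ⟶ R.obj G₂ => t.toNatTrans.app s.right) h
    have hb : ∀ γ : G₁ ⟶ G₂, p.map (γ.toNatTrans.app Y) =
        eqToHom ((Functor.congr_obj G₁.w Y).trans (Functor.congr_obj G₂.w Y).symm) := fun γ => by
      haveI : p.IsHomLift (𝟙 Y) (γ.toNatTrans.app Y) := γ.isHomLift' Y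
      simpa using IsHomLift.fac' p (𝟙 Y) (γ.toNatTrans.app Y)
    refine hom_ext_over p (G₂.toFunctor.map s.hom) ((hb α).trans (hb β).symm) ?_
    rw [← α.toNatTrans.naturality, ← β.toNatTrans.naturality, hs]⟩
  haveI : R.Full := ⟨fun {G₁ G₂} a => by
    let H : Over' φ p := R.obj G₂
    have hG : ∀ (G : FibCat.selfOver D ⥤ᵇ BasedCategory.ofFunctor p) {Y Y' : D} (g : Y ⟶ Y'),
        p.map (G.toFunctor.map g) = eqToHom (Functor.congr_obj G.w Y) ≫ g ≫ eqToHom (Functor.congr_obj G.w Y').symm :=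
      fun G => Functor.congr_hom G.w
    have ha : ∀ x : C, p.map (a.toNatTrans.app x) =
        eqToHom ((Functor.congr_obj G₁.w (φ.obj x)).trans (Functor.congr_obj G₂.w (φ.obj x)).symm) := fun x => by
      haveI : p.IsHomLift (𝟙 (φ.obj x)) (a.toNatTrans.app x) := a.isHomLift' x
      simpa using IsHomLift.fac' p (𝟙 (φ.obj x)) (a.toNatTrans.app x)
    let K₁ : ∀ Y, Cone p H Y := fun Y =>
      { T := G₁.toFunctor.obj Y
        hT := Functor.congr_obj G₁.w Y
        c := fun s => G₁.toFunctor.map s.hom ≫ a.toNatTrans.app s.right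
        over := fun s => by rw [p.map_comp, hG, ha]; simp
        nat := fun {s t} f => by
          have := a.toNatTrans.naturality f.right
          change G₁.toFunctor.map (φ.map f.right) ≫ _ = _ ≫ G₂.toFunctor.map (φ.map f.right) at this
          show (_ ≫ _) ≫ G₂.toFunctor.map (φ.map f.right) = _
          rw [Category.assoc, ← this, ← Category.assoc, ← G₁.toFunctor.map_comp, StructuredArrow.w] }
    let K₂ : ∀ Y, Cone p H Y := fun Y =>
      { T := G₂.toFunctor.obj Y
        hT := Functor.congr_obj G₂.w Y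
        c := fun s => G₂.toFunctor.map s.hom
        over := fun s => hG G₂ s.hom
        nat := fun {s t} f => by
          show _ ≫ G₂.toFunctor.map (φ.map f.right) = _
          rw [← G₂.toFunctor.map_comp, StructuredArrow.w] }
    choose β hβ hβu using fun Y => exists_coneMap (hpre Y) (hφ Y).1 (K₁ Y) (K₂ Y) (𝟙 Y)
    have hβ' : ∀ Y, ∀ s : StructuredArrow Y φ, β Y ≫ G₂.toFunctor.map s.hom =
        G₁.toFunctor.map s.hom ≫ a.toNatTrans.app s.right := fun Y s => by
      have h : β Y ≫ G₂.toFunctor.map s.hom = G₁.toFunctor.map (𝟙 Y ≫ s.hom) ≫ a.toNatTrans.app s.right :=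
        (hβ Y).2 s
      rwa [Category.id_comp] at h
    have hβp : ∀ Y, p.map (β Y) = eqToHom ((Functor.congr_obj G₁.w Y).trans (Functor.congr_obj G₂.w Y).symm) :=
      fun Y => by simpa using (hβ Y).1
    let η : G₁.toFunctor ⟶ G₂.toFunctor :=
      { app := β
        naturality := fun Y Y' g => by
          obtain ⟨s'⟩ := (hφ Y').1
          refine hom_ext_over p (G₂.toFunctor.map s'.hom) ?_ ?_
          · rw [p.map_comp, p.map_comp, hG, hG, hβp, hβp]; simp
          · rw [Category.assoc, Category.assoc, hβ' Y' s', ← Category.assoc, ← G₁.toFunctor.map_comp,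
              ← G₂.toFunctor.map_comp]
            exact (hβ' Y (StructuredArrow.mk (g ≫ s'.hom))).symm }
    refine ⟨{ toNatTrans := η, isHomLift' := fun Y => IsHomLift.of_fac p _ _ (Functor.congr_obj G₁.w Y) (Functor.congr_obj G₂.w Y) (by
      show 𝟙 Y = _
      rw [hβp]; simp; rfl) }, ?_⟩
    refine BasedNatTrans.homCategory.ext _ _ (NatTrans.ext (funext fun x => ?_))
    have := hβ' (φ.obj x) (StructuredArrow.mk (𝟙 (φ.obj x)))
    simp at this
    rw [Category.comp_id] at this
    exact this⟩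
  haveI : R.EssSurj := ⟨fun H => by
    let K := fun Y => (exists_cone.{max w u₁ u₂ u₃ v₁ v₂ v₃} p H Y (hφ Y)).some
    choose M hM hMu using fun (Y Y' : D) (g : Y ⟶ Y') => exists_coneMap (hpre Y') (hφ Y').1 (K Y) (K Y') g
    have hc : ∀ (Y : D) (x : C) (v v' : Y ⟶ φ.obj x), v = v' →
        (K Y).c (StructuredArrow.mk v) = (K Y).c (StructuredArrow.mk v') := by
      rintro Y x v _ rfl; rfl
    let Gf : D ⥤ F :=
      { obj := fun Y => (K Y).T
        map := fun {Y Y'} g => M Y Y' g
        map_id := fun Y => (hMu Y Y (𝟙 Y) (𝟙 _) ⟨by simp, fun s => by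
          rw [Category.id_comp]
          exact (hc Y s.right _ _ (Category.id_comp s.hom)).symm⟩).symm
        map_comp := fun {X Y Z} g g' => (hMu X Z (g ≫ g') (M X Y g ≫ M Y Z g') ⟨by
          rw [p.map_comp, (hM X Y g).1, (hM Y Z g').1]; simp, fun s => by
          rw [Category.assoc, (hM Y Z g').2, (hM X Y g).2]
          exact hc X s.right _ _ (Category.assoc g g' s.hom).symm⟩).symm }
    let G : FibCat.selfOver D ⥤ᵇ BasedCategory.ofFunctor p :=
      { toFunctor := Gf
        w := CategoryTheory.Functor.ext (F := Gf ⋙ p) (G := Functor.id D) (fun a => (K a).hT) (fun a b g => (hM a b g).1) }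
    let s₀ : ∀ x, StructuredArrow (φ.obj x) φ := fun x => StructuredArrow.mk (𝟙 (φ.obj x))
    have hlift : ∀ x, p.IsHomLift (𝟙 (φ.obj x)) ((K (φ.obj x)).c (s₀ x)) := fun x =>
      IsHomLift.of_fac p _ _ (K (φ.obj x)).hT (p_obj p H x) (by
        rw [(K (φ.obj x)).over]; simp [s₀])
    haveI : ∀ x, IsIso ((K (φ.obj x)).c (s₀ x)) := fun x =>
      haveI := hlift x
      isIso_over_id p (S := φ.obj x) _
    have hnat : ∀ {x y : C} (h : x ⟶ y), M _ _ (φ.map h) ≫ (K (φ.obj y)).c (s₀ y) =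
        (K (φ.obj x)).c (s₀ x) ≫ H.toFunctor.map h := fun {x y} h => by
      rw [(hM _ _ (φ.map h)).2]
      refine Eq.trans ?_ ((K (φ.obj x)).nat
        (StructuredArrow.homMk h : s₀ x ⟶ (StructuredArrow.map (φ.map h)).obj (s₀ y))).symm
      rfl
    let η : (R.obj G).toFunctor ≅ H.toFunctor :=
      NatIso.ofComponents (fun x => asIso ((K (φ.obj x)).c (s₀ x))) fun {x y} h => hnat h
    exact ⟨G, ⟨BasedNatIso.mkNatIso η hlift⟩⟩⟩
  exact { }

end FibGrpd

section Fibred

variable {C : Type u₁} [Category.{v₁} C] {D : Type u₂} [Category.{v₂} D] (f : C ⥤ D) [f.IsFibered]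

theorem constToGrpd_structuredArrow {Y : D} (h : ConstToGrpd.{w} (f.Fiber Y)) :
    ConstToGrpd.{w} (StructuredArrow Y f) := by
  let i : f.Fiber Y ⥤ StructuredArrow Y f :=
    { obj := fun a => StructuredArrow.mk (eqToHom a.2.symm)
      map := fun {a b} g => StructuredArrow.homMk g.1 (by
        haveI : f.IsHomLift (𝟙 Y) g.1 := g.2
        simp [IsHomLift.fac' f (𝟙 Y) g.1]) }
  have hl : ∀ s : StructuredArrow Y f, ∃ (a : C) (ha : f.obj a = Y) (k : a ⟶ s.right),
      f.IsStronglyCartesian s.hom k ∧ f.map k = eqToHom ha ≫ s.hom := fun s => by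
    refine ⟨_, IsPreFibered.pullbackObj_proj (p := f) rfl s.hom, IsPreFibered.pullbackMap (p := f) rfl s.hom, inferInstance, ?_⟩
    simpa using IsHomLift.fac' f s.hom (IsPreFibered.pullbackMap (p := f) rfl s.hom)
  choose a ha k hk hkm using hl
  have hu : ∀ {s t : StructuredArrow Y f} (g : s ⟶ t), ∃ u : a s ⟶ a t,
      (f.IsHomLift (𝟙 Y) u ∧ u ≫ k t = k s ≫ g.right) ∧
        ∀ u', f.IsHomLift (𝟙 Y) u' ∧ u' ≫ k t = k s ≫ g.right → u' = u := fun {s t} g => by
    haveI := hk t
    haveI : f.IsHomLift t.hom (k s ≫ g.right) := IsHomLift.of_fac f _ _ (ha s) rfl (by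
      rw [f.map_comp, hkm]; simp)
    exact IsStronglyCartesian.universal_property f t.hom (k t) (𝟙 Y) t.hom (Category.id_comp _).symm (k s ≫ g.right)
  choose u hu huu using @hu
  let r : StructuredArrow Y f ⥤ f.Fiber Y :=
    { obj := fun s => Fiber.mk (ha s)
      map := fun {s t} g => haveI := (hu g).1; Fiber.homMk f Y (u g)
      map_id := fun s => Fiber.hom_ext (huu (𝟙 s) (𝟙 _) ⟨IsHomLift.id (ha s), by simp⟩).symm
      map_comp := fun {x y z} g g' => Fiber.hom_ext (by
        haveI := (hu g).1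
        haveI := (hu g').1
        exact (huu (g ≫ g') (u g ≫ u g') ⟨inferInstance, by
          rw [Category.assoc, (hu g').2, reassoc_of% (hu g).2]; simp⟩).symm) }
  let ε : r ⋙ i ⟶ 𝟭 _ :=
    { app := fun s => StructuredArrow.homMk (k s) (by
        show eqToHom (ha s).symm ≫ f.map (k s) = s.hom
        simp [hkm])
      naturality := fun s t g => StructuredArrow.hom_ext _ _ (hu g).2 }
  refine ⟨h.1.map i.obj, fun G _ P => ?_⟩
  obtain ⟨T, ⟨e⟩⟩ := h.2 G (i ⋙ P)
  haveI : IsIso (Functor.whiskerRight ε P) := by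
    rw [NatTrans.isIso_iff_isIso_app]
    intro s
    infer_instance
  exact ⟨T, ⟨Functor.isoWhiskerLeft r e ≪≫ (Functor.associator _ _ _).symm ≪≫
    asIso (Functor.whiskerRight ε P) ≪≫ P.leftUnitor⟩⟩

end Fibred

end Groth.Agent.FibGrpdDesc
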